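import Mathlib
import Cfsg.Agent.EE.PR0

set_option autoImplicit false
set_option linter.unusedSectionVars false

namespace Cfsg.Agent.EE

open Cfsg Cfsg.Agent.GT Cfsg.Agent.Loc.Mss Cfsg.Agent.StdB Cfsg.Agent.Chev Cfsg.Agent.FE Subgroup
open scoped commutatorElement

variable {G : Type*} [Group G] [Finite G] {q n : ℕ} {p : Prd G q n} {g : G}

theorem Prd.Mu.inv (h : p.Mu g) : p.Mu g⁻¹ := ⟨le_cj_iff_inv_le.1 h.2, cj_le_iff_le_inv.1 h.1⟩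

theorem Prd.Mu.sym (h : p.Mu g) : p.sym.Mu g := by
  unfold Prd.Mu
  rw [p.sym_S0, p.sym_D]
  exact h

theorem Prd.Mu.mul_t (h : p.Mu g) : p.Mu (g * p.t) := by
  unfold Prd.Mu
  rw [← Loc.Mss.cj_cj, ← Loc.Mss.cj_cj, cj_of_norm p.t_norm.1, cj_of_norm p.t_norm.2]
  exact h

theorem Prd.Pa.sym (h : p.Pa g) : p.sym.Pa g := ⟨h.mu.sym, h.c21, h.c12, h.z2, h.z1⟩

namespace B1

/-- A subgroup `X` of `S0` normalized by `U1` contains `Z1` or nearly centralizes `L1`. -/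
theorem dich (p : Prd G q n) {X : Subgroup G} (h1 : X ≤ p.S0) (h2 : p.a1.U ≤ 𝐍[X]) :
    p.a1.Z ≤ X ∨ ⁅X, X⁆ ≤ 𝐂[p.a1.L] := by
  refine (p.a1.dich (p.a1.U ⊓ X) inf_le_left (norm_inf le_normalizer h2)).symm.imp (fun h => h.trans inf_le_right)
    fun h => ?_
  have a1 : X ≤ 𝐍[p.a1.U] := h1.trans (p.S0_norm.trans (inf_le_left.trans inf_le_left))
  have a2 : X ≤ p.a1.W ⊔ 𝐂[p.a1.L] := fun x hx => p.a1.cU x (p.syl.le (h1 hx)).1 fun v hv =>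
    h ⟨comm_le_right a1 (commutator_mem_commutator hx hv), comm_le_left h2 (commutator_mem_commutator hx hv)⟩
  have a3 : p.a1.W ≤ p.a1.L := (PR0.W_le p.a1).trans p.a1.syl.le
  refine (commutator_mono a2 a2).trans (commutator_le.2 fun x hx y hy => ?_)
  obtain ⟨u, hu, c, hc, rfl⟩ := p.a1.dec a3 hx
  obtain ⟨v, hv, d, hd, rfl⟩ := p.a1.dec a3 hy
  have e1 : Commute u v := (mem_cent.1 (comm_of_el p.a1.el hv) u hu)
  have e2 : Commute u d := mem_cent.1 hd u (a3 hu)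
  have e3 : Commute v c := mem_cent.1 hc v (a3 hv)
  have e4 : Commute u c := mem_cent.1 hc u (a3 hu)
  have e5 : Commute v d := mem_cent.1 hd v (a3 hv)
  have e6 : u * c * (v * d) * (u * c)⁻¹ = v * (c * d * c⁻¹) := by
    rw [e4.eq, mul_assoc c u, (e1.mul_right e2).eq, ← mul_assoc, ← mul_assoc c v, ← e3.eq]; group
  rw [commutatorElement_def, e6, (e3.mul_right e5).mul_right e3.inv_right |>.eq, e5.eq]
  have : c * d * c⁻¹ * v * (d * v)⁻¹ = c * d * c⁻¹ * d⁻¹ := by group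
  rw [this]
  exact mul_mem (mul_mem (mul_mem hc hd) (inv_mem hc)) (inv_mem hd)

theorem n1 (h : p.Mu g) : p.D ≤ 𝐍[cj(g, p.a1.U)] := by
  rw [← cj_norm]
  exact h.2.trans (cj_mono g (p.S0_norm.trans (inf_le_left.trans inf_le_left)))

theorem col (h : p.Mu g) : p.a1.Z ≤ cj(g, p.a1.U) ∨ p.a2.Z ≤ cj(g, p.a1.U) := by
  have a1 : cj(g, p.a1.U) ≤ p.S0 := (cj_mono g le_sup_left).trans h.1
  rcases dich p a1 (le_sup_left.trans (n1 h)) with h1 | h1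
  · exact .inl h1
  rcases dich p.sym (p.sym_S0 ▸ a1) (le_sup_right.trans (n1 h)) with h2 | h2
  · exact .inr h2
  have := p.pg_C ((pg_cj p.a1.syl.pg g).to_le (comm_le_left le_normalizer)) (le_inf h1 h2)
  rw [← cj_comm, cj_eq_bot] at this
  exact absurd this (PR0.der_ne p.a1)

theorem inf_bot (p : Prd G q n) (g : G) : cj(g, p.a1.U) ⊓ cj(g, p.a2.U) = ⊥ := by
  rw [← cj_inf, cj_eq_bot]
  exact p.a1.pg_C (p.a1.syl.pg.to_le inf_le_left) (inf_le_inf p.a1.syl.le (p.a2.syl.le.trans (cent_comm p.cm)))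

theorem row (p : Prd G q n) (a : Fac G q n) (h1 : a.Z ≤ cj(g, p.a1.U)) (h2 : a.Z ≤ cj(g, p.a2.U)) : False := by
  have h3 := a.cardZ
  have := p.tw.q2
  rw [eq_bot_iff.2 ((le_inf h1 h2).trans (inf_bot p g).le), card_bot] at h3
  omega

theorem n2 (h : p.Mu g) : p.a1.U ≤ 𝐍[cj(g, p.a2.U)] := by
  have := n1 h.sym
  rw [p.sym_D, show p.sym.a1.U = p.a2.U from rfl] at this
  exact le_sup_left.trans this

theorem half1 (h : p.Mu g) (b : p.a1.Z ≤ cj(g, p.a1.U)) : p.a1.U ≤ 𝐂[cj(g, p.a2.U)] := by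
  have a1 : cj(g, p.a2.U) ≤ p.S0 := (cj_mono g le_sup_right).trans h.1
  have a2 := n2 h
  have a3 : p.a1.U ⊓ cj(g, p.a2.U) ≤ p.a1.Z :=
    (p.a1.dich _ inf_le_left (norm_inf le_normalizer a2)).resolve_right fun e => row p p.a1 b (e.trans inf_le_right)
  have a0 : p.S0 ≤ 𝐍[p.a1.U] := p.S0_norm.trans (inf_le_left.trans inf_le_left)
  have a4 : ⁅p.a1.U, cj(g, p.a2.U)⁆ ≤ p.a1.U ⊓ cj(g, p.a2.U) :=
    le_inf (comm_le_left (a1.trans a0)) (comm_le_right a2)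
  have a5 : ⁅p.a1.U, cj(g, p.a2.U)⁆ ≤ cj(g, p.a1.U) ⊓ cj(g, p.a2.U) :=
    le_inf (a4.trans (a3.trans b)) (a4.trans inf_le_right)
  rw [inf_bot p g, le_bot_iff] at a5
  exact comm_eq_bot_iff.1 a5

theorem half2 (h : p.Mu g) (b : p.a1.Z ≤ cj(g, p.a1.U)) : cj(g, p.a1.Z) = p.a1.Z := by
  have b1 : cj(g⁻¹, p.a1.Z) ≤ p.a1.U := le_cj_iff_inv_le.1 b
  have b0 : cj(g, p.a1.U) ≤ 𝐍[p.a1.Z] :=
    ((cj_mono g le_sup_left).trans h.1).trans (p.S0_norm.trans (inf_le_left.trans inf_le_right))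
  have b2 : p.a1.U ≤ 𝐍[cj(g⁻¹, p.a1.Z)] := by
    rw [← cj_norm]
    exact cj_le_iff_le_inv.1 b0
  rcases p.a1.dich _ b1 b2 with e | e
  · exact cj_eq_of_ge (le_cj_iff_inv_le.2 e)
  · exact cj_eq_of_le (cj_le_iff_le_inv.2 e)

theorem pa (h : p.Mu g) (b1 : p.a1.Z ≤ cj(g, p.a1.U)) (b2 : p.a2.Z ≤ cj(g, p.a2.U)) : p.Pa g :=
  ⟨h, half1 h b1, half1 h.sym b2, half2 h b1, half2 h.sym b2⟩

end B1

theorem Prd.Mu.pa (h : p.Mu g) : p.Pa g ∨ p.Pa (g * p.t) := by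
  have c2 : p.a2.Z ≤ cj(g, p.a2.U) ∨ p.a1.Z ≤ cj(g, p.a2.U) := B1.col h.sym
  rcases B1.col h with c1 | c1
  · exact .inl (B1.pa h c1 (c2.resolve_right (B1.row p p.a1 c1)))
  · refine .inr (B1.pa h.mul_t ?_ ?_)
    · rw [← Loc.Mss.cj_cj, p.swU]
      exact c2.resolve_left (B1.row p p.a2 c1)
    · rwa [← Loc.Mss.cj_cj, p.cj_cj p.swU]

end Cfsg.Agent.EE
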