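import Mathlib
import Cfsg.Agent.EE.B1

set_option autoImplicit false
set_option linter.unusedSectionVars false

namespace Cfsg.Agent.EE

open Cfsg Cfsg.Agent.GT Cfsg.Agent.Loc.Mss Cfsg.Agent.StdB Cfsg.Agent.Chev Cfsg.Agent.FE Subgroup
open scoped commutatorElement

variable {G : Type*} [Group G] [Finite G] {q n : ℕ} {p : Prd G q n} {g : G}

/-- the elements of the conjugate of `U₁` -/
theorem Prd.Pa.b2_dec (h : p.Pa g) {v : G} (hv : v ∈ cj(g, p.a1.U)) :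
    ∃ a ∈ p.a1.U, ∃ z ∈ p.a2.Z, v = a * z := by
  have hS : cj(g, p.a1.U) ≤ p.S0 := (cj_mono g le_sup_left).trans h.mu.1
  have hN : p.a1.U ≤ 𝐍[cj(g, p.a1.U)] := by
    rw [← cj_norm]
    exact le_sup_left.trans (h.mu.2.trans (cj_mono g (p.S0_norm.trans (inf_le_left.trans inf_le_left))))
  obtain ⟨a, ha, c, hc, e1⟩ := p.a1.dec p.a1.syl.le (p.a1.wc g (hS.trans p.S0_le) hN h.z1 hv)
  have hZ : p.a2.Z ≤ p.a2.L := p.a2.Z_le.trans p.a2.syl.le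
  obtain ⟨z, hz, c2, hc2, e2⟩ := p.a2.dec hZ (p.a2.cZ ⟨(p.syl.le (hS hv)).2, cent_comm h.c21 hv⟩)
  have haC : a ∈ 𝐂[p.a2.L] := p.cm (p.a1.syl.le ha)
  have hzC : z ∈ 𝐂[p.a1.L] := cent_comm p.cm (hZ hz)
  have haz : z * a = a * z := mem_cent.1 haC z (hZ hz)
  have e3 : z⁻¹ * c = a⁻¹ * c2 := by
    have : z * c2 = a * c := e2.symm.trans e1
    calc z⁻¹ * c = z⁻¹ * a⁻¹ * (a * c) := by group
      _ = (a * z)⁻¹ * (z * c2) := by rw [this]; group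
      _ = (z * a)⁻¹ * (z * c2) := by rw [haz]
      _ = a⁻¹ * c2 := by group
  have hU1 : p.a1.U ≤ p.S0 := le_sup_left.trans le_sup_left
  have hU2 : p.a2.U ≤ p.S0 := le_sup_right.trans le_sup_left
  have hcS : c ∈ p.S0 := by
    have : c = a⁻¹ * v := by rw [e1]; group
    rw [this]; exact mul_mem (inv_mem (hU1 ha)) (hS hv)
  have hb : p.S0 ⊓ (𝐂[p.a1.L] ⊓ 𝐂[p.a2.L]) = ⊥ := p.pg_C p.syl.pg.to_inf_left inf_le_right
  have h1 : z⁻¹ * c ∈ p.S0 ⊓ (𝐂[p.a1.L] ⊓ 𝐂[p.a2.L]) :=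
    mem_inf.2 ⟨mul_mem (inv_mem (hU2 (p.a2.Z_le hz))) hcS, mem_inf.2 ⟨mul_mem (inv_mem hzC) hc,
      e3 ▸ mul_mem (inv_mem haC) hc2⟩⟩
  rw [hb, mem_bot, inv_mul_eq_one] at h1
  exact ⟨a, ha, z, hz, by rw [e1, h1]⟩

theorem Prd.Pa.le (h : p.Pa g) : cj(g, p.a1.U) ≤ p.a1.U ⊔ p.a2.Z := fun _ hv => by
  obtain ⟨a, ha, z, hz, rfl⟩ := h.b2_dec hv
  exact mul_mem (mem_sup_left ha) (mem_sup_right hz)

theorem Prd.Pa.der (h : p.Pa g) : cj(g, ⁅p.a1.U, p.a1.U⁆) = ⁅p.a1.U, p.a1.U⁆ := by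
  refine cj_eq_of_le ?_
  rw [cj_comm]
  have h1 : p.a2.Z ≤ 𝐂[p.a1.U] :=
    (p.a2.Z_le.trans p.a2.syl.le).trans ((cent_comm p.cm).trans (cent_anti p.a1.syl.le))
  have h2 : p.a2.Z ≤ 𝐂[p.a1.U ⊔ p.a2.Z] := le_cent_sup h1 (p.a2.ZU.trans (cent_anti p.a2.Z_le))
  refine (commutator_mono h.le h.le).trans (le_of_eq ?_)
  rw [sup_cent_comm (norm_of_cent h1) h2, Subgroup.commutator_comm, sup_cent_comm (norm_of_cent h1) h1]

end Cfsg.Agent.EE
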