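import Mathlib
import Cfsg.Agent.EE.PT
import Cfsg.Agent.FE.ME

set_option autoImplicit false
set_option linter.unusedSectionVars false

namespace Cfsg.Agent.EE

open Cfsg Cfsg.Agent.GT Cfsg.Agent.Loc.Mss Cfsg.Agent.StdB Cfsg.Agent.Chev Cfsg.Agent.FE Subgroup
open scoped commutatorElement

variable {G : Type*} [Group G] [Finite G] {q n : ℕ} (p : Prd G q n)

namespace PU

variable {p} {s : G}

/-- The diagonal map. -/
def δ (hs : s ∈ p.wr.H) (hs' : s ∉ p.wr.H0) : p.a1.L →* G := MonoidHom.mk' (fun a => a * (s * a * s⁻¹)) fun a b => by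
  have e := p.wr.comm b.2 (WrA.Wr.swap1 hs hs' a.2)
  calc _ = a * (b * (s * a * s⁻¹)) * (s * b * s⁻¹) := by simp only [coe_mul]; group
    _ = _ := by rw [e]; group

theorem δ_apply (hs : s ∈ p.wr.H) (hs' : s ∉ p.wr.H0) (a : p.a1.L) : δ hs hs' a = a * (s * a * s⁻¹) := rfl

theorem inj (hs : s ∈ p.wr.H) (hs' : s ∉ p.wr.H0) {a b : p.a1.L} {i j : ℕ} (ha : (a : G) ^ 2 ^ i = 1)
    (hb : (b : G) ^ 2 ^ j = 1) (e : δ hs hs' a = δ hs hs' b) : a = b := by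
  have e1 : (b : G)⁻¹ * a = s * (b * (a : G)⁻¹) * s⁻¹ := by
    rw [δ_apply, δ_apply] at e
    calc _ = (b : G)⁻¹ * (a * (s * a * s⁻¹)) * (s * (a : G)⁻¹ * s⁻¹) := by group
      _ = _ := by rw [e]; group
  have h1 : (b : G)⁻¹ * a ∈ p.a1.L := mul_mem (inv_mem b.2) a.2
  have h2 : (b : G)⁻¹ * a ∈ 𝐂[p.a1.L] := cent_comm p.cm (e1 ▸ WrA.Wr.swap1 hs hs' (mul_mem b.2 (inv_mem a.2)))
  have h3 : Commute (b : G) a := by
    have : Commute (b : G) (b * ((b : G)⁻¹ * a)) := (Commute.refl _).mul_right (mem_cent.1 h2 b b.2)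
    rwa [mul_inv_cancel_left] at this
  have h4 : ((b : G)⁻¹ * a) ^ 2 ^ (i + j) = 1 := by
    rw [h3.inv_left.mul_pow, inv_pow, pow_add, pow_mul (a : G), ha, mul_comm (2 ^ i), pow_mul (b : G), hb]; simp
  exact Subtype.ext (inv_mul_eq_one.1 (zpowers_eq_bot.1
    (p.a1.pg_C (pg_zpowers_of_pow h4) (zpowers_le.2 ⟨h1, h2⟩)))).symm

theorem card (hs : s ∈ p.wr.H) (hs' : s ∉ p.wr.H0) {P : Subgroup G} (hP : IsPGroup 2 P) (h : P ≤ p.a1.L) :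
    Nat.card ((P.subgroupOf p.a1.L).map (δ hs hs')) = Nat.card P := by
  rw [← Nat.card_congr (subgroupOfEquivOfLe h).toEquiv, ← SetLike.coe_sort_coe, coe_map, Nat.card_image_of_injOn]
  · rfl
  · intro a ha b hb e
    obtain ⟨i, hi⟩ := pg_iff.1 hP a ha
    obtain ⟨j, hj⟩ := pg_iff.1 hP b hb
    exact inj hs hs' hi hj e

theorem comm (s2 : s * s = 1) (hs : s ∈ p.wr.H) (hs' : s ∉ p.wr.H0) (a : p.a1.L) : δ hs hs' a * s = s * δ hs hs' a := by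
  have e := p.wr.comm a.2 (WrA.Wr.swap1 hs hs' a.2)
  have e2 : s⁻¹ = s := inv_eq_of_mul_eq_one_right s2
  rw [δ_apply]
  calc _ = a * s * a := by group
    _ = (s * s) * a * s⁻¹ * a := by rw [s2, e2, one_mul]
    _ = s * (s * a * s⁻¹ * a) := by group
    _ = _ := by rw [e]

end PU

open PU in
theorem Prd.uf {g : G} (h : g * p.t * g⁻¹ ∈ p.wr.H) : g ∈ p.wr.H := by
  have h' := p.noT g
  have s2 := ME.conj_sq p.tw.t2 g
  have ufa := p.tw.ufa g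
  generalize g * p.t * g⁻¹ = s at h h' s2 ufa
  have si : s⁻¹ = s := inv_eq_of_mul_eq_one_right s2
  have ZL : p.a1.Z ≤ p.a1.L := p.a1.Z_le.trans p.a1.syl.le
  have ZL' : cj(s, p.a1.Z) ≤ p.a2.L := cj_le_iff.2 fun a ha => WrA.Wr.swap1 h h' (ZL ha)
  have elZ : El p.a1.Z := fun a ha => p.a1.el a (p.a1.ZW ha)
  have hn : p.a1.Z ≤ 𝐍[cj(s, p.a1.Z)] := norm_of_cent (ZL.trans (p.cm.trans (cent_anti ZL')))
  have dec : ∀ y ∈ p.a1.Z ⊔ cj(s, p.a1.Z), ∃ a ∈ p.a1.Z, ∃ b ∈ p.a1.Z, y = a * (s * b * s⁻¹) := fun y hy => by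
    obtain ⟨a, ha, c, ⟨b, hb, rfl⟩, rfl⟩ := (mem_sup_norm' hn).1 hy
    exact ⟨a, ha, b, hb, rfl⟩
  have pg : ∀ {P : Subgroup G}, IsPGroup 2 P → IsPGroup 2 ((P.subgroupOf p.a1.L).map (δ h h')) := fun hP =>
    (hP.comap_subtype).map _
  have cZ : p.a1.Z ≤ 𝐂[(p.a1.U.subgroupOf p.a1.L).map (δ h h')] := fun z hz => mem_cent.2 (by
    rintro _ ⟨a, ha, rfl⟩
    have e1 : Commute (a : G) z := mem_cent.1 (p.a1.ZU hz) a ha
    have e2 : Commute (s * a * s⁻¹) z := (p.wr.comm (ZL hz) (WrA.Wr.swap1 h h' a.2)).symm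
    exact (e1.mul_left e2).eq)
  refine p.norm_le (ufa ((p.a1.U.subgroupOf p.a1.L).map (δ h h')) ((p.a1.V.subgroupOf p.a1.L).map (δ h h'))
    ((⊤ : Subgroup p.a1.L).map (δ h h')) (p.a1.Z ⊔ cj(s, p.a1.Z)) (pg p.a1.syl.pg) (pg p.a1.sylV.pg)
    (map_mono le_top) (map_mono le_top) (perfect_map p.a1.qs.commutator_eq_top _) ?_ ?_ ?_ ?_ ?_ ?_ ?_ ?_ ?_)
  · rintro _ ⟨a, -, rfl⟩
    exact ⟨mul_mem (mem_sup_left a.2) (mem_sup_right (WrA.Wr.swap1 h h' a.2)), mem_C1.2 (comm s2 h h' a)⟩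
  · rw [card h h' p.a1.syl.pg p.a1.syl.le, p.a1.cardU]
  · rw [card h h' p.a1.sylV.pg p.a1.sylV.le, ← p.a1.syl.card_eq p.a1.sylV, p.a1.cardU]
  · refine eq_bot_iff.2 ?_
    rintro _ ⟨⟨a, ha, rfl⟩, b, hb, e⟩
    obtain ⟨i, hi⟩ := pg_iff.1 p.a1.syl.pg a ha
    obtain ⟨j, hj⟩ := pg_iff.1 p.a1.sylV.pg b hb
    obtain rfl := inj h h' hj hi e
    have : (b : G) ∈ p.a1.U ⊓ p.a1.V := ⟨ha, hb⟩
    rw [p.a1.UV, mem_bot] at this
    rw [mem_bot, δ_apply, this]; simp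
  · refine le_inf (sup_le_sup ZL ZL') (sup_le cZ (cj_le_iff.2 fun z hz => mem_cent.2 ?_))
    rintro _ ⟨a, ha, rfl⟩
    have e1 : Commute (δ h h' a) s := comm s2 h h' a
    have e2 : Commute (δ h h' a) z := mem_cent.1 (cZ hz) _ ⟨a, ha, rfl⟩
    exact ((e1.mul_right e2).mul_right e1.inv_right).eq
  · intro y hy
    obtain ⟨a, ha, b, hb, rfl⟩ := dec y hy
    have e : Commute a (s * b * s⁻¹) := p.wr.comm (ZL ha) (WrA.Wr.swap1 h h' (ZL hb))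
    rw [← pow_two, e.mul_pow, conj_pow, pow_two, pow_two, elZ a ha, elZ b hb]; simp
  · rw [GT.card_sup_of_inf_eq_bot hn (p.a1.pg_C ((pg_of_el elZ).to_le inf_le_left)
      (inf_le_inf ZL (ZL'.trans (cent_comm p.cm)))), card_cj, p.a1.cardZ, pow_two]
  · intro y hy
    obtain ⟨a, ha, b, hb, rfl⟩ := dec y hy
    refine ⟨⟨a * b, ZL (mul_mem ha hb)⟩, p.a1.Z_le (mul_mem ha hb), ?_⟩
    have e1 : Commute b (s * b * s⁻¹) := p.wr.comm (ZL hb) (WrA.Wr.swap1 h h' (ZL hb))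
    have e2 : Commute a b := mem_cent.1 (comm_of_el elZ hb) a ha
    have e3 : s * (a * (s * b * s⁻¹))⁻¹ * s⁻¹ = b * (s * a * s⁻¹) := by
      calc _ = s * s * b⁻¹ * (s⁻¹ * a⁻¹ * s⁻¹) := by group
        _ = _ := by rw [s2, one_mul, inv_eq_of_mul_eq_one_right (elZ a ha), inv_eq_of_mul_eq_one_right (elZ b hb), si]
    calc δ h h' ⟨a * b, _⟩ = a * b * (s * (a * b) * s⁻¹) := rfl
      _ = a * (b * (s * b * s⁻¹)) * (s * a * s⁻¹) := by rw [e2.eq]; nth_rw 1 [← e2.eq]; group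
      _ = a * (s * b * s⁻¹) * (s * (a * (s * b * s⁻¹))⁻¹ * s⁻¹) := by rw [e3, e1.eq]; group
      _ = _ := by rw [commutatorElement_def]; group
  · exact fun e => h' (sup_le p.wr.L1_le p.wr.L2_le (sup_le_sup ZL ZL' e))

theorem Prd.top : Syl 2 p.wr.S ⊤ :=
  Syl.of_maximal p.syl_H.pg le_top fun _ hP h1 h2 => p.syl_H.ge_of_le hP h1
    (le_of_uf p.tw.t2 p.wr.t_mem (fun _ _ => p.uf) hP h2 (h1 p.wr.tS))

end Cfsg.Agent.EE
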