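import Mathlib
import Cfsg.Agent.EE.Abs
import Cfsg.Agent.EE.Bas

set_option autoImplicit false
set_option linter.unusedSectionVars false

namespace Cfsg.Agent.EE

open Cfsg Cfsg.Agent.GT Cfsg.Agent.Loc.Mss Cfsg.Agent.StdB Cfsg.Agent.Chev Cfsg.Agent.FE Subgroup
open scoped commutatorElement

variable {ι Nd M : Type} [AddCommGroup M] [Fintype Nd] [Fintype ι] [DecidableEq ι] {R : StRoot ι Nd M}
  {T : Top R} {F : Type} [Field F] [Finite F] [CharP F 2] {G : Type*} [Group G] [Finite G] {b : Db T F G}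

theorem Db.DX_NN_le (b : Db T F G) : R.NN b.x ≤ b.L :=
  StRoot.NN_le_XS_univ.trans (XS_le fun r _ a => b.xL r a)

theorem Db.gg_spec (b : Db T F G) (r : ι) : b.gg r ∈ b.L ∧ b.gg r * b.z * (b.gg r)⁻¹ = b.x r 1 := by
  have h : ∃ g ∈ b.L, g * b.z * g⁻¹ = b.x r 1 := by
    obtain ⟨l, hl⟩ := T.trans r
    exact ⟨_, b.DX_NN_le (StRoot.nw_mem_NN l), by rw [T.nw_conj b.model.toIsSt, hl]⟩
  rw [Db.gg, dif_pos h]
  exact h.choose_spec

theorem Db.X_mul (b : Db T F G) (r : ι) (y y' : G) : b.X r (y * y') = b.X r y * b.X r y' := by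
  simp only [Db.X]; group

theorem Db.nw_mem (b : Db T F G) (l : List Nd) : R.nw b.x l ∈ b.L :=
  b.DX_NN_le (StRoot.nw_mem_NN l)

theorem Db.HH_le (b : Db T F G) : R.HH b.x ≤ b.L := StRoot.HH_le_NN.trans b.DX_NN_le

theorem Db.pair1 (b : Db T F G) {r s : ι} (h : R.A r s = 1) : ∃ l, R.wd l T.r0 = r ∧ R.wd l T.r1 = s := by
  obtain ⟨l, hl⟩ := T.trans r
  have e : R.wd l ((R.wd l).symm s) = s := (R.wd l).apply_symm_apply s
  obtain ⟨l', h0, h1⟩ := b.tr1 ((R.wd l).symm s) (by rw [← (R.isAut_wd l).A, hl, e, h])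
  exact ⟨l ++ l', by rw [R.wd_append, Equiv.Perm.mul_apply, h0, hl],
    by rw [R.wd_append, Equiv.Perm.mul_apply, h1, e]⟩

theorem Db.DX_eq (b : Db T F G) {y g : G} (hy : y ∈ 𝐂[b.D]) {r : ι} (hg : g ∈ b.L)
    (e : g * b.z * g⁻¹ = b.x r 1) : b.X r y = g * y * g⁻¹ := by
  obtain ⟨h1, h2⟩ := b.gg_spec r
  have hd : g⁻¹ * b.gg r ∈ b.D := by
    refine mem_inf.2 ⟨b.L.mul_mem (b.L.inv_mem hg) h1, mem_centralizer_singleton_iff.2 ?_⟩
    calc g⁻¹ * b.gg r * b.z = g⁻¹ * (b.gg r * b.z * (b.gg r)⁻¹) * b.gg r := by group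
      _ = b.z * (g⁻¹ * b.gg r) := by rw [h2, ← e]; group
  have := mem_cent.1 hy _ hd
  calc b.gg r * y * (b.gg r)⁻¹ = g * (g⁻¹ * b.gg r * y) * (b.gg r)⁻¹ := by group
    _ = g * y * g⁻¹ := by rw [this]; group

theorem Db.X_x (b : Db T F G) (r : ι) (a : F) : b.X r (b.x T.r0 a) = b.x r a := by
  obtain ⟨l, hl⟩ := T.trans r
  rw [b.DX_eq (cent_comm b.DZ (x_mem_rsub _ _ a)) (b.nw_mem l) (by rw [T.nw_conj b.model.toIsSt, hl]),
    T.nw_conj b.model.toIsSt, hl]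

theorem Db.DX_ct (b : Db T F G) {g : G} (hg : g ∈ b.L) : g * b.t = b.t * g :=
  mem_centralizer_singleton_iff.1 (b.LC hg)

namespace Db.Y0

variable (k : b.Y0)

theorem p_mul {y y' : G} (hy : y ∈ k.Y) (hy' : y' ∈ k.Y) : k.p (y * y') = k.p y + k.p y' := by
  apply b.model.x_inj T.r0
  apply mul_left_cancel (a := b.t)
  have hc := mem_cent.1 (k.comm hy) _ (k.Z_le (x_mem_rsub b.x T.r0 (k.p y')))
  rw [← k.tr _ (mul_mem hy hy'), b.model.add, ← mul_assoc, ← k.tr _ hy]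
  calc y * y' * b.t * (y * y')⁻¹ = y * (y' * b.t * y'⁻¹) * y⁻¹ := by group
    _ = y * b.t * y⁻¹ * (y * b.x T.r0 (k.p y')) * y⁻¹ := by rw [k.tr _ hy']; group
    _ = _ := by rw [← hc]; group

theorem p_x (a : F) : k.p (b.x T.r0 a) = 0 := by
  have h := k.tr _ (k.Z_le (x_mem_rsub b.x T.r0 a))
  rw [b.DX_ct (b.xL _ _), mul_inv_cancel_right] at h
  exact b.model.x_eq_one (left_eq_mul.1 h)

theorem t_notMem : b.t ∉ k.Y := fun ht => by
  have h := k.tr _ ht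
  rw [mul_inv_cancel_right] at h
  exact b.tL (rsub_le (b.xL T.r0) (k.ker _ ht (b.model.x_eq_one (left_eq_mul.1 h))))

theorem X_eq {y g : G} (hy : y ∈ k.Y) {r : ι} (hg : g ∈ b.L) (e : g * b.z * g⁻¹ = b.x r 1) :
    b.X r y = g * y * g⁻¹ := b.DX_eq (k.cD hy) hg e

theorem X_r0 {y : G} (hy : y ∈ k.Y) : b.X T.r0 y = y := by
  rw [k.X_eq hy (one_mem _) (by simp)]; simp

theorem X_conj {y g : G} (hy : y ∈ k.Y) {r s : ι} (hg : g ∈ b.L) (e : g * b.x r 1 * g⁻¹ = b.x s 1) :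
    g * b.X r y * g⁻¹ = b.X s y := by
  obtain ⟨h1, h2⟩ := b.gg_spec r
  rw [k.X_eq (r := s) hy (mul_mem hg h1) (by rw [← e, ← h2]; group), Db.X]
  group

theorem X_nw {y : G} (hy : y ∈ k.Y) (l : List Nd) (r : ι) :
    R.nw b.x l * b.X r y * (R.nw b.x l)⁻¹ = b.X (R.wd l r) y :=
  k.X_conj hy (b.nw_mem l) (T.nw_conj b.model.toIsSt l r 1)

theorem X_tr {y : G} (hy : y ∈ k.Y) (r : ι) : b.X r y * b.t * (b.X r y)⁻¹ = b.t * b.x r (k.p y) := by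
  have hc := b.DX_ct (b.gg_spec r).1
  rw [← b.X_x r, Db.X, Db.X]
  calc b.gg r * y * (b.gg r)⁻¹ * b.t * (b.gg r * y * (b.gg r)⁻¹)⁻¹
      = b.gg r * y * (b.gg r)⁻¹ * (b.t * b.gg r) * y⁻¹ * (b.gg r)⁻¹ := by group
    _ = b.gg r * (y * b.t * y⁻¹) * (b.gg r)⁻¹ := by rw [← hc]; group
    _ = b.gg r * b.t * b.x T.r0 (k.p y) * (b.gg r)⁻¹ := by rw [k.tr _ hy]; group
    _ = _ := by rw [hc]; group

theorem X_cD {y d : G} (hy : y ∈ k.Y) {r : ι} (hd : d ∈ b.L ⊓ C1 (b.x r 1)) : Commute d (b.X r y) := by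
  have := k.X_conj (r := r) (s := r) hy (mem_inf.1 hd).1
    (by rw [mem_centralizer_singleton_iff.1 (mem_inf.1 hd).2, mul_inv_cancel_right])
  exact mul_inv_eq_iff_eq_mul.1 this

theorem X_cx {y : G} (hy : y ∈ k.Y) {r s : ι} (h : 0 ≤ R.A r s) (a : F) : Commute (b.x s a) (b.X r y) :=
  k.X_cD hy (mem_inf.2 ⟨b.xL _ _,
    mem_centralizer_singleton_iff.2 (T.commute b.model.toIsAB h 1 a).symm⟩)

theorem X_hh {y h : G} (hy : y ∈ k.Y) (hh : h ∈ R.HH b.x) {r : ι} {m : F} (e : h * b.x r 1 * h⁻¹ = b.x r m) :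
    ∃ y' ∈ k.Y, h * b.X r y * h⁻¹ = b.X r y' ∧ k.p y' = m * k.p y := by
  obtain ⟨l, hl⟩ := T.trans r
  have st := b.model.toIsSt
  have hn : ∀ a, R.nw b.x l * b.x T.r0 a * (R.nw b.x l)⁻¹ = b.x r a := fun a => by rw [T.nw_conj st, hl]
  have h' := st.conj_inv_mem_HH (StRoot.nw_mem_NN l) hh
  have hnL := b.nw_mem l
  generalize R.nw b.x l = n at hn h' hnL
  have hy' := conj_mem_of_norm (k.hn h') hy
  refine ⟨_, hy', by rw [k.X_eq hy hnL (hn 1), k.X_eq hy' hnL (hn 1)]; group, ?_⟩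
  obtain ⟨χ, hχ⟩ := st.exists_chr h'
  have c1 : R.chv χ T.r0 = m := by
    have h1 := hχ.conj T.r0 1
    rw [mul_one, Equiv.Perm.one_apply] at h1
    apply b.model.x_inj r
    rw [← e, ← hn, ← hn, ← h1]
    group
  have h2 := hχ.conj T.r0 (k.p y)
  rw [c1, Equiv.Perm.one_apply] at h2
  have hc := b.DX_ct (b.HH_le h')
  generalize n⁻¹ * h * n = g at hy' h2 hc
  apply b.model.x_inj T.r0
  apply mul_left_cancel (a := b.t)
  rw [← k.tr _ hy', ← h2]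
  calc g * y * g⁻¹ * b.t * (g * y * g⁻¹)⁻¹ = g * y * g⁻¹ * (b.t * g) * y⁻¹ * g⁻¹ := by group
    _ = g * (y * b.t * y⁻¹) * g⁻¹ := by rw [← hc]; group
    _ = g * b.t * b.x T.r0 (k.p y) * g⁻¹ := by rw [k.tr _ hy]; group
    _ = _ := by rw [hc]; group

theorem X_disj {y y' : G} (hy : y ∈ k.Y) (hy' : y' ∈ k.Y) {r s : ι} (h : r ≠ s) (e : b.X r y = b.X s y') :
    y = 1 ∧ y' = 1 := by
  have key : ∀ a a', b.x r a = b.x s a' → a = 0 ∧ a' = 0 := fun a a' e' => by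
    have ha : a = 0 := by_contra fun ha => h (b.model.root_eq ha e')
    rw [ha, (b.model.add r).zero] at e'
    exact ⟨ha, b.model.x_eq_one e'.symm⟩
  have h1 := k.X_tr hy r
  rw [e, k.X_tr hy' s] at h1
  obtain ⟨p0, p0'⟩ := key _ _ (mul_left_cancel h1).symm
  obtain ⟨a, rfl⟩ := (b.model.add _).mem_rsub.1 (k.ker _ hy p0)
  obtain ⟨a', rfl⟩ := (b.model.add _).mem_rsub.1 (k.ker _ hy' p0')
  rw [b.X_x, b.X_x] at e
  obtain ⟨rfl, rfl⟩ := key _ _ e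
  exact ⟨(b.model.add _).zero, (b.model.add _).zero⟩

end Db.Y0

end Cfsg.Agent.EE
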