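import Mathlib
import Cfsg.Agent.EE.DX

set_option autoImplicit false
set_option linter.unusedSectionVars false

namespace Cfsg.Agent.EE

open Cfsg Cfsg.Agent.GT Cfsg.Agent.Loc.Mss Cfsg.Agent.StdB Cfsg.Agent.Chev Cfsg.Agent.FE Subgroup
open scoped commutatorElement

variable {ι Nd M : Type} [AddCommGroup M] [Fintype Nd] [Fintype ι] [DecidableEq ι] {R : StRoot ι Nd M}
  {T : Top R} {F : Type} [Field F] [Finite F] [CharP F 2] {G : Type*} [Group G] [Finite G] {b : Db T F G} (k : b.Y0)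

namespace DW

theorem A10 (T : Top R) : R.A T.r1 T.r0 = 1 := by rw [T.sl.symm]; exact A_r0_r1 T

theorem r01 (T : Top R) : T.r0 ≠ T.r1 := fun e => by
  have := A_r0_r1 T
  rw [← e, R.A_self] at this
  omega

theorem wd0 (T : Top R) : R.wd [T.a0] T.r0 = T.r1 := by rw [R.wd_singleton]; rfl

theorem wd1 (T : Top R) : R.wd [T.a0] T.r1 = T.r0 := by rw [R.wd_singleton]; exact refl_al_r1 T

theorem c01 (b : Db T F G) (a c : F) : Commute (b.x T.r0 a) (b.x T.r1 c) :=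
  T.commute b.model.toIsAB (by rw [A_r0_r1]; norm_num) a c

theorem tL {g : G} (h : g ∈ b.L) : Commute g b.t := mem_C1.1 (b.LC h)

theorem W_le (b : Db T F G) : WW T b.x ≤ b.L := sup_le (rsub_le (b.xL _)) (rsub_le (b.xL _))

theorem mem_W {w : G} (h : w ∈ WW T b.x) : ∃ a c, w = b.x T.r0 a * b.x T.r1 c := by
  have hn : rsub b.x T.r1 ≤ 𝐍[rsub b.x T.r0] := norm_of_cent (rsub_le fun c _ hz => by
    obtain ⟨a, rfl⟩ := (b.model.add _).mem_rsub.1 hz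
    exact (c01 b a c).eq)
  obtain ⟨_, h1, _, h2, rfl⟩ := (mem_sup_norm hn).1 h
  obtain ⟨a, rfl⟩ := (b.model.add _).mem_rsub.1 h1
  obtain ⟨c, rfl⟩ := (b.model.add _).mem_rsub.1 h2
  exact ⟨a, c, rfl⟩

theorem x_sq (b : Db T F G) (r : ι) (a : F) : b.x r a * b.x r a = 1 := T.x_sq b.model.toIsAB r a

theorem W_sq {w : G} (h : w ∈ WW T b.x) : w * w = 1 := by
  obtain ⟨a, c, rfl⟩ := mem_W h
  rw [(c01 b a c).symm.mul_mul_mul_comm, x_sq, x_sq, mul_one]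

theorem mem_Wt {v : G} (h : v ∈ WW T b.x ⊔ zpowers b.t) : v ∈ WW T b.x ∨ ∃ w ∈ WW T b.x, v = w * b.t := by
  have hn : zpowers b.t ≤ 𝐍[WW T b.x] := norm_of_cent (zpowers_le.2 fun _ hz => (tL (W_le b hz)).eq)
  obtain ⟨n, hn, _, ⟨i, rfl⟩, rfl⟩ := (mem_sup_norm hn).1 h
  have t2 : b.t ^ (2 : ℤ) = 1 := by rw [zpow_two, b.t2]
  rcases Int.emod_two_eq_zero_or_one i with e | e
  · left
    show n * b.t ^ i ∈ _
    rwa [zpow_eq_zpow_emod i t2, e, zpow_zero, mul_one]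
  · refine .inr ⟨n, hn, ?_⟩
    show n * b.t ^ i = _
    rw [zpow_eq_zpow_emod i t2, e, zpow_one]

/-- `Y` commutes with the root groups at a non-obtuse angle to `r0` -/
theorem cy {y : G} (hy : y ∈ k.Y) {s : ι} (h : 0 ≤ R.A T.r0 s) (a : F) : Commute (b.x s a) y := by
  have := k.X_cx hy h a
  rwa [k.X_r0 hy] at this

theorem W_c {y w : G} (hy : y ∈ k.Y) {r : ι} (h0 : 0 ≤ R.A r T.r0) (h1 : 0 ≤ R.A r T.r1) (hw : w ∈ WW T b.x) :
    Commute w (b.X r y) := by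
  obtain ⟨a, c, rfl⟩ := mem_W hw
  exact (k.X_cx hy h0 a).mul_left (k.X_cx hy h1 c)

theorem W_c1 {y w : G} (hy : y ∈ k.Y) (hw : w ∈ WW T b.x) : Commute w (b.X T.r1 y) :=
  W_c k hy (by rw [A10]; norm_num) (by rw [R.A_self]; norm_num) hw

theorem W_c0 {y w : G} (hy : y ∈ k.Y) (hw : w ∈ WW T b.x) : Commute w y := by
  have := W_c k hy (r := T.r0) (by rw [R.A_self]; norm_num) (by rw [A_r0_r1]; norm_num) hw
  rwa [k.X_r0 hy] at this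

theorem x0_mem (a : F) : b.x T.r0 a ∈ WW T b.x := mem_sup_left (x_mem_rsub _ _ _)

theorem x1_mem (a : F) : b.x T.r1 a ∈ WW T b.x := mem_sup_right (x_mem_rsub _ _ _)

theorem X_inv (b : Db T F G) (r : ι) (y : G) : b.X r y⁻¹ = (b.X r y)⁻¹ := by
  simp only [Db.X]; group

theorem tr2 {y y' : G} (hy : y ∈ k.Y) (hy' : y' ∈ k.Y) :
    y * b.X T.r1 y' * b.t * (y * b.X T.r1 y')⁻¹ = b.t * (b.x T.r0 (k.p y) * b.x T.r1 (k.p y')) := by
  calc _ = y * (b.X T.r1 y' * b.t * (b.X T.r1 y')⁻¹) * y⁻¹ := by group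
    _ = y * b.t * (b.x T.r1 (k.p y') * y⁻¹) := by rw [k.X_tr hy']; group
    _ = _ := by rw [(W_c0 k (inv_mem hy) (x1_mem _)).eq, ← mul_assoc, k.tr y hy, mul_assoc]

theorem tr2' {y y' : G} (hy : y ∈ k.Y) (hy' : y' ∈ k.Y) :
    b.X T.r1 y' * y * b.t * (b.X T.r1 y' * y)⁻¹ = b.t * (b.x T.r0 (k.p y) * b.x T.r1 (k.p y')) := by
  calc _ = b.X T.r1 y' * (y * b.t * y⁻¹) * (b.X T.r1 y')⁻¹ := by group
    _ = b.X T.r1 y' * b.t * (b.x T.r0 (k.p y) * (b.X T.r1 y')⁻¹) := by rw [k.tr y hy]; group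
    _ = _ := by rw [(W_c1 k hy' (x0_mem _)).inv_right.eq, ← mul_assoc, k.X_tr hy', mul_assoc, (c01 b _ _).eq]

theorem mem_C1_of {g g' t : G} (h : g * t * g⁻¹ = g' * t * g'⁻¹) : g'⁻¹ * g ∈ C1 t := mem_C1.2 (by
  calc g'⁻¹ * g * t = g'⁻¹ * (g * t * g⁻¹) * g := by group
    _ = _ := by rw [h]; group)

theorem cE0 {y : G} (hy : y ∈ k.Y) : y ∈ 𝐂[b.L ⊓ C1 (b.x T.r0 1) ⊓ C1 (b.x T.r1 1)] :=
  cent_anti inf_le_left (k.cD hy)

theorem cE1 {y : G} (hy : y ∈ k.Y) : b.X T.r1 y ∈ 𝐂[b.L ⊓ C1 (b.x T.r0 1) ⊓ C1 (b.x T.r1 1)] :=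
  fun _ hd => (k.X_cD hy ⟨hd.1.1, hd.2⟩).eq

theorem not_t {u g w : G} (hu : u ∈ k.Y) (hg : g ∈ 𝐂[ZZ T b.x]) (hw : w ∈ WW T b.x)
    (e : g * u * g⁻¹ = u * (w * b.t)) : False := by
  have hz : u * u ∈ ZZ T b.x := k.sq u hu ▸ x_mem_rsub _ _ _
  have h1 : u * u = u * (w * b.t) * (u * (w * b.t)) := by
    rw [← e, conj_mul, ← hg _ hz, mul_inv_cancel_right]
  have h2 : u * b.t = b.t * b.x T.r0 (k.p u) * u := mul_inv_eq_iff_eq_mul.1 (k.tr u hu)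
  have h3 : u * (w * b.t) * (u * (w * b.t)) = b.x T.r0 (k.p u) * (u * u) := by
    have c : Commute w (u * b.t) := (W_c0 k hu hw).mul_right (tL (W_le b hw))
    calc _ = u * w * b.t * (u * w * b.t) := by group
      _ = w * (u * b.t) * (w * (u * b.t)) := by rw [← (W_c0 k hu hw).eq]; group
      _ = u * b.t * (u * b.t) := by rw [c.symm.mul_mul_mul_comm, W_sq hw, one_mul]
      _ = b.t * (b.x T.r0 (k.p u) * (u * u) * b.t) := by nth_rw 1 [h2]; group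
      _ = _ := by
        rw [(tL (mul_mem (b.xL _ _) (W_le b (mem_sup_left hz)))).eq, ← mul_assoc, b.t2, one_mul]
  rw [h3, eq_comm, mul_eq_right] at h1
  have h4 := k.ker u hu (b.model.x_eq_one h1)
  rw [← hg _ h4, mul_inv_cancel_right, eq_comm, mul_eq_left] at e
  exact b.tL ((mul_mem_cancel_left (W_le b hw)).1 (e ▸ one_mem _))

end DW

open DW

/-- the commutator for an angle of a third of `π` -/
theorem Db.Y0.comm_W {y y' : G} (hy : y ∈ k.Y) (hy' : y' ∈ k.Y) : ⁅y, b.X T.r1 y'⁆ ∈ WW T b.x := by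
  have h1 := mem_C1_of ((tr2 k (inv_mem hy) (inv_mem hy')).trans (tr2' k (inv_mem hy) (inv_mem hy')).symm)
  rw [X_inv, show ((b.X T.r1 y')⁻¹ * y⁻¹)⁻¹ * (y⁻¹ * (b.X T.r1 y')⁻¹) = ⁅y, b.X T.r1 y'⁆ by
    rw [commutatorElement_def]; group] at h1
  have h2 : ⁅y, b.X T.r1 y'⁆ ∈ 𝐂[b.L ⊓ C1 (b.x T.r0 1) ⊓ C1 (b.x T.r1 1)] :=
    mul_mem (mul_mem (mul_mem (cE0 k hy) (cE1 k hy')) (inv_mem (cE0 k hy))) (inv_mem (cE1 k hy'))
  refine (mem_Wt (b.c1 ⟨h1, h2⟩)).resolve_right fun ⟨w, hw, e⟩ => ?_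
  refine not_t k (inv_mem hy) (g := b.X T.r1 y') (fun _ hz => (W_c1 k hy' (mem_sup_left hz)).eq) hw ?_
  rw [← e, commutatorElement_def]; group

/-- the conjugate under the simple root group -/
theorem Db.Y0.conj_W {y : G} (hy : y ∈ k.Y) (u : F) : ∃ y0 ∈ k.Y, k.p y0 = u * k.p y ∧
    ∃ v ∈ WW T b.x ⊔ zpowers b.t, b.x T.al u * b.X T.r1 y * (b.x T.al u)⁻¹ = y0 * b.X T.r1 y * v := by
  obtain ⟨y0, h0, e0⟩ := k.onto (u * k.p y)
  have hc : ∀ a, b.x T.al u * b.x T.r1 a * (b.x T.al u)⁻¹ = b.x T.r1 a * b.x T.r0 (u * a) := fun a => by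
    rw [T.conj_eq b.model.toIsAB (A_al_r1 T), refl_al_r1]
  refine ⟨y0, h0, e0, (y0 * b.X T.r1 y)⁻¹ * (b.x T.al u * b.X T.r1 y * (b.x T.al u)⁻¹), b.c1 ⟨mem_C1_of ?_, ?_⟩,
    (mul_inv_cancel_left _ _).symm⟩
  · rw [tr2 k h0 hy, e0, (c01 b _ _).eq, ← hc]
    have ct := (DW.tL (b.xL T.al u)).eq
    calc _ = b.x T.al u * b.X T.r1 y * ((b.x T.al u)⁻¹ * b.t) * b.x T.al u * (b.X T.r1 y)⁻¹ * (b.x T.al u)⁻¹ := by group
      _ = b.x T.al u * (b.X T.r1 y * b.t * (b.X T.r1 y)⁻¹) * (b.x T.al u)⁻¹ := by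
        rw [(DW.tL (inv_mem (b.xL T.al u))).eq]; group
      _ = _ := by rw [k.X_tr hy, ← mul_assoc, ct]; group
  · refine Subgroup.mul_mem _ (Subgroup.inv_mem _ (Subgroup.mul_mem _ (cE0 k h0) (cE1 k hy))) fun d hd => ?_
    have h1 : d * (b.x T.r1 1 * b.x T.r0 (u * 1)) = b.x T.r1 1 * b.x T.r0 (u * 1) * d := by
      rw [← mul_assoc, mem_C1.1 hd.2, mul_assoc, ← b.DZ hd.1 _ (x_mem_rsub _ _ _), mul_assoc]
    rw [← hc] at h1
    have h2 : (b.x T.al u)⁻¹ * d * b.x T.al u ∈ b.L ⊓ C1 (b.x T.r1 1) :=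
      ⟨b.L.mul_mem (b.L.mul_mem (b.L.inv_mem (b.xL _ _)) hd.1.1) (b.xL _ _), mem_C1.2 (by
        calc _ = (b.x T.al u)⁻¹ * (d * (b.x T.al u * b.x T.r1 1 * (b.x T.al u)⁻¹)) * b.x T.al u := by group
          _ = _ := by rw [h1]; group)⟩
    have h3 := (k.X_cD hy h2).eq
    calc _ = b.x T.al u * ((b.x T.al u)⁻¹ * d * b.x T.al u * b.X T.r1 y) * (b.x T.al u)⁻¹ := by group
      _ = _ := by rw [h3]; group

theorem Db.Y0.c1_big (h : Nat.card F ≠ 2) {y y' : G} (hy : y ∈ k.Y) (hy' : y' ∈ k.Y) :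
    Commute y (b.X T.r1 y') := by
  obtain ⟨m, m0, m1⟩ : ∃ m : F, m ≠ 0 ∧ m ≠ 1 := by
    by_contra hq
    push Not at hq
    exact h ((Nat.card_eq_two_iff' 0).2 ⟨1, one_ne_zero, hq⟩)
  have m2 : 1 + m ≠ 0 := fun e => m1 (CharTwo.add_eq_zero.1 e).symm
  obtain ⟨g, hg, g0, g1⟩ := T.tor2 b.model.toIsSt (d := T.r1) (r01 T).symm (fun e => by
    have := A_r0_r1 T
    rw [e, R.A_ng_right, R.A_self] at this
    omega) m0
  obtain ⟨χ, hχ⟩ := b.model.toIsSt.exists_chr hg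
  have mul : ∀ {y y' y''}, y ∈ k.Y → y' ∈ k.Y → y'' ∈ k.Y →
      ⁅y, b.X T.r1 (y' * y'')⁆ = ⁅y, b.X T.r1 y'⁆ * ⁅y, b.X T.r1 y''⁆ := fun {y y' y''} hy hy' hy'' => by
    have := (W_c1 k hy' (k.comm_W hy hy'')).eq
    rw [b.X_mul]
    calc _ = ⁅y, b.X T.r1 y'⁆ * (b.X T.r1 y' * ⁅y, b.X T.r1 y''⁆) * (b.X T.r1 y')⁻¹ := by
          simp only [commutatorElement_def]; group
      _ = _ := by rw [← this]; group
  have key : ∀ {y y'}, y ∈ k.Y → y' ∈ k.Y → ⁅y, b.X T.r1 y'⁆ ∈ rsub b.x T.r1 := fun {y y3} hy h3 => by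
    obtain ⟨y1, h1, e1⟩ := k.onto (k.p y3 / (1 + m))
    obtain ⟨y2, h2, e2, e2'⟩ := k.X_hh h1 hg g1
    have h12 := mul_mem h1 h2
    have hz : (y1 * y2)⁻¹ * y3 ∈ ZZ T b.x := k.ker _ (mul_mem (inv_mem h12) h3) (by
      have e3 := k.p_mul h12 (mul_mem (inv_mem h12) h3)
      rw [mul_inv_cancel_left, k.p_mul h1 h2, e2', e1, ← one_add_mul, mul_div_cancel₀ _ m2] at e3
      exact left_eq_add.1 e3)
    obtain ⟨a, ea⟩ := (b.model.add _).mem_rsub.1 hz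
    rw [eq_inv_mul_iff_mul_eq] at ea
    rw [← ea, mul hy h12 (k.Z_le (x_mem_rsub _ _ _)), b.X_x,
      commutatorElement_eq_one_iff_commute.2 (W_c0 k hy (x1_mem a)).symm, mul_one, mul hy h1 h2]
    obtain ⟨a0, a1, e⟩ := mem_W (k.comm_W hy h1)
    have gy : g * y * g⁻¹ = y := by
      rw [k.cD hy g ⟨b.HH_le hg, mem_C1.2 (g0 1).eq⟩, mul_inv_cancel_right]
    have e' : ⁅y, b.X T.r1 y2⁆ = b.x T.r0 a0 * b.x T.r1 (R.chv χ T.r1 * a1) := by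
      rw [← e2, ← show g * b.x T.r1 a1 * g⁻¹ = b.x T.r1 (R.chv χ T.r1 * a1) from hχ.conj T.r1 a1]
      nth_rw 1 [← gy]
      calc _ = g * ⁅y, b.X T.r1 y1⁆ * g⁻¹ := by simp only [commutatorElement_def]; group
        _ = _ := by rw [e, ← mul_assoc, (g0 a0).eq]; group
    rw [e, e', (c01 b a0 a1).symm.mul_mul_mul_comm, x_sq, one_mul]
    exact mul_mem (x_mem_rsub _ _ _) (x_mem_rsub _ _ _)
  obtain ⟨a, ea⟩ := (b.model.add _).mem_rsub.1 (key hy hy')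
  obtain ⟨c, ec⟩ := (b.model.add _).mem_rsub.1 (inv_mem (key hy' hy))
  have n0 := k.X_nw hy [T.a0] T.r0
  have n1 := k.X_nw hy' [T.a0] T.r1
  rw [wd0, k.X_r0 hy] at n0
  rw [wd1, k.X_r0 hy'] at n1
  have e := T.nw_conj b.model.toIsSt [T.a0] T.r1 a
  rw [wd1, ea, conjugate_commutatorElement, n0, n1, ← commutatorElement_inv, ← ec] at e
  have ha : a = 0 := by_contra fun ha => r01 T (b.model.root_eq ha e.symm)
  rw [ha, (b.model.add _).zero] at ea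
  exact commutatorElement_eq_one_iff_commute.1 ea.symm

end Cfsg.Agent.EE
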