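import Mathlib
import Cfsg.Agent.EE.I6c

set_option autoImplicit false
set_option maxRecDepth 100000
set_option exponentiation.threshold 100000
set_option synthInstance.maxSize 100000
set_option synthInstance.maxHeartbeats 400000

namespace Cfsg.Agent.EE

open Cfsg.Agent.Chev Cfsg.Agent.FE Cfsg.Lie Cfsg.Lie.ChevalleyDatum

theorem i6wd : i6d.Wd 66 68 (fun r => ([[], [], [], [], [], [], [], [], [], [], [], [], [], [], [], [], [], [], [], [], [], [], [], [], [], [], [], [], [], [], [], [], [], [], [], [], [], [], [], [], [], [], [], [], [], [], [3, 4, 5, 2, 3, 4, 0, 2, 3], [4, 5, 2, 3, 4, 0, 2, 3], [5, 2, 3, 4, 0, 2, 3], [2, 3, 4, 0, 2, 3], [4, 5, 3, 4, 0, 2, 3], [5, 3, 4, 0, 2, 3], [3, 4, 0, 2, 3], [5, 4, 0, 2, 3], [4, 0, 2, 3], [0, 2, 3], [], [], [], [], [], [4, 5, 3, 4, 2, 3], [5, 3, 4, 2, 3], [3, 4, 2, 3], [5, 4, 2, 3], [4, 2, 3], [2, 3], [5, 4, 3], [4, 3], [3], [], []] : List (List (Fin 6))).getD r [])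
    (fun r => ([[], [], [], [], [], [], [], [], [], [], [], [2, 0, 3, 1, 2, 3, 4, 5, 4, 3, 2, 0], [2, 0, 3, 1, 2, 3, 5, 4, 3, 2, 0], [2, 0, 3, 1, 2, 5, 4, 3, 2, 0], [2, 0, 3, 1, 5, 4, 3, 2, 0], [2, 3, 1, 5, 4, 3, 2, 0], [], [], [], [], [], [], [], [], [], [], [2, 0, 3, 1, 2, 3, 4, 5, 4, 3, 2], [2, 0, 3, 1, 2, 3, 5, 4, 3, 2], [2, 0, 3, 1, 2, 5, 4, 3, 2], [2, 0, 3, 1, 5, 4, 3, 2], [2, 0, 3, 1, 2, 3, 4, 5, 4, 3], [2, 0, 3, 1, 2, 3, 5, 4, 3], [2, 0, 3, 1, 2, 5, 4, 3], [2, 0, 3, 1, 2, 3, 4, 5, 4], [2, 0, 3, 1, 2, 3, 5, 4], [2, 0, 3, 1, 2, 3, 4, 5], [2, 0, 3, 1, 2, 3, 4], [2, 0, 3, 1, 2, 3, 5], [2, 0, 3, 1, 2, 3], [2, 0, 3, 1, 2, 5, 4], [2, 0, 3, 1, 2, 5], [2, 0, 3, 1, 2], [2, 0, 3, 1, 5, 4, 3], [2, 0, 3, 1, 5, 4], [2, 0, 3, 1, 5], [2, 0, 3, 1], [], [], [], [], [], [], [], [], [], [], [2, 3, 1, 5, 4, 3, 2], [2, 3, 1, 5, 4, 3], [2, 3, 1, 5, 4], [2, 3, 1, 5], [2, 3, 1], [], [], [], [], [], [], [], [], [], [], []] : List (List (Fin 6))).getD r []) [0, 2, 0,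 3, 2, 0, 4, 3, 2, 0, 5, 4, 3, 2, 0] [0, 2, 0, 4, 5, 4] := by
  unfold Rd.Wd
  decide +kernel

theorem i6ex1 : i6d.Ex1 66 68 := by
  unfold Rd.Ex1
  decide +kernel

theorem i6ex2 : i6d.Ex2 fun r => (Fin.ofNat 72 (tbN 0x302f2e322f2e31302e31302f343332000000000000000000000000000000000000000000000000000000000000302f2e312f2e31302e31302f33322e3d322e34332e3d322f3d322f353330000000000000000000000000000000000000000000000000000000000000000000000000000000000000000000000000000000000000000000000000000000000000000000000000000000000000000000000000000000000000000000000000000000000000000000000000 8 (3 * r)), Fin.ofNat 72 (tbN 0x302f2e322f2e31302e31302f343332000000000000000000000000000000000000000000000000000000000000302f2e312f2e31302e31302f33322e3d322e34332e3d322f3d322f353330000000000000000000000000000000000000000000000000000000000000000000000000000000000000000000000000000000000000000000000000000000000000000000000000000000000000000000000000000000000000000000000000000000000000000000000000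 8 (3 * r + 1)),
    Fin.ofNat 72 (tbN 0x302f2e322f2e31302e31302f343332000000000000000000000000000000000000000000000000000000000000302f2e312f2e31302e31302f33322e3d322e34332e3d322f3d322f353330000000000000000000000000000000000000000000000000000000000000000000000000000000000000000000000000000000000000000000000000000000000000000000000000000000000000000000000000000000000000000000000000000000000000000000000000 8 (3 * r + 2))) := by
  unfold Rd.Ex2
  decide +kernel

theorem i6ab : i6d.Ab (List.finRange 72) [[50, 56, 45, 62, 41], [48, 58], [54, 59], [52, 64], [46, 70], [36, 67], [53, 63], [44, 61], [43, 66], [38, 39], [51, 60], [55, 57], [42, 49], [37, 65], [47, 69], [40, 68], [71]] := by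
  unfold Rd.Ab
  decide +kernel

end Cfsg.Agent.EE
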