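import Mathlib
import Cfsg.Agent.EE.ZFus

/-! The conjugates of `t` in the centre of `Y` induce inner automorphisms. -/

set_option autoImplicit false
set_option linter.unusedSectionVars false

namespace Cfsg.Agent.EE

open Cfsg Cfsg.Agent.GT Cfsg.Agent.Loc.Mss Cfsg.Agent.StdB Cfsg.Agent.Chev Cfsg.Agent.FE Subgroup
open scoped commutatorElement

variable {G : Type*} [Group G] [Finite G] {c : Z0 G} (h : c.Hard)

/-- The elements of order at most two in the centre of `Y`. -/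
def zV (Y : Subgroup G) : Subgroup G where
  carrier := {v | v ∈ Y ⊓ 𝐂[Y] ∧ v * v = 1}
  one_mem' := ⟨one_mem _, mul_one 1⟩
  mul_mem' := fun {a b} ha hb => ⟨mul_mem ha.1 hb.1, by
    rw [mul_assoc, ← mul_assoc b, ← mem_cent.1 hb.1.2 a ha.1.1, mul_assoc, hb.2, mul_one, ha.2]⟩
  inv_mem' := fun {a} ha => ⟨inv_mem ha.1, by rw [← mul_inv_rev, ha.2, inv_one]⟩

theorem mem_zV {Y : Subgroup G} {v : G} : v ∈ zV Y ↔ v ∈ Y ⊓ 𝐂[Y] ∧ v * v = 1 := Iff.rfl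

theorem zV_conj {Y : Subgroup G} {n v : G} (hn : n ∈ 𝐍[Y]) (hv : v ∈ zV Y) : n * v * n⁻¹ ∈ zV Y :=
  ⟨conj_mem_of_norm (norm_inf le_rfl (norm_cent le_rfl) hn) hv.1, by rw [conj_mul, hv.2]; group⟩

theorem norm_zV (Y : Subgroup G) : 𝐍[Y] ≤ 𝐍[zV Y] :=
  norm_of_forall_cj_le fun _ hn => cj_le_iff.2 fun _ => zV_conj hn

namespace Z0

variable (c)

theorem TC : c.T ≤ C1 c.t := c.syl.le
theorem QT : c.Q ≤ c.T := c.QU.trans c.UT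
theorem ZT : c.Z ≤ c.T := c.ZQ.trans c.QT
theorem UL : c.U ≤ c.L := c.sylU.le
theorem zz : c.z * c.z = 1 := c.el _ c.zZ
theorem zU : c.z ∈ c.U := c.QU (c.ZQ c.zZ)
theorem tT : c.t ∈ c.T := c.t_mem_R.1

theorem om_sq {Y : Subgroup G} {a : G} (ha : a ∈ c.Om Y) : a * a = 1 := by
  obtain ⟨g, rfl⟩ := isConj_iff.1 ha.1
  rw [conj_mul, c.t2]; group

end Z0

namespace Z0.Hard

theorem pg : IsPGroup 2 h.Y := c.syl.pg.to_le h.le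

theorem t_om : c.t ∈ c.Om h.Y :=
  ⟨IsConj.refl _, h.t_mem, mem_cent.2 fun _ ha => mem_C1.1 (c.TC (h.le ha))⟩

theorem om_notZ {s : G} (hs : s ∈ c.Om h.Y) : s ∉ c.Z := by
  obtain ⟨g, rfl⟩ := isConj_iff.1 hs.1
  exact h.noZ g

theorem om_tZ {y : G} (hs : c.t * y ∈ c.Om h.Y) (hy : y ∈ c.Z) : y = 1 := by
  obtain ⟨g, e⟩ := isConj_iff.1 hs.1
  exact h.notZ g y hy e

theorem Y_eq {s : G} (hs : s ∈ c.Om h.Y) (h1 : s ≠ c.t) : h.Y = c.T ⊓ C1 s :=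
  ((h.max _ h.t_om _ hs h1.symm).eq_of_le c.syl.pg.to_inf_left
    (le_inf h.le fun a ha => mem_C1.2 (mem_cent.1 hs.2.2 a ha)) (inf_le_inf_right _ c.TC)).symm

theorem exists_x : ∃ x ∈ c.Q ⊓ 𝐍[h.Y], x ∉ h.Y := by
  have hQ : ¬ h.Y ⊔ c.Q ≤ h.Y := fun k => by
    obtain ⟨s, hs, s1⟩ := h.ex
    obtain ⟨y, hy, rfl | rfl⟩ := c.cen_inv (s := s) ⟨h.le hs.2.1, cent_anti (le_sup_right.trans k) hs.2.2⟩ (c.om_sq hs)
    · exact h.om_notZ hs hy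
    · exact s1 (by rw [h.om_tZ hs hy, mul_one])
  obtain ⟨x, hx, h1, h2⟩ := Inv.exists_mem_normalizer_of_lt (c.syl.pg.to_le (sup_le h.le c.QT)) le_sup_left hQ
  obtain ⟨a, ha, q, hq, rfl⟩ := (mem_sup_norm' (h.le.trans (c.T_norm_ZQ.trans inf_le_right))).1 hx
  exact ⟨q, ⟨hq, (mul_mem_cancel_left (le_normalizer ha)).1 h2⟩, fun e => h1 (mul_mem ha e)⟩

theorem trans {a : G} (ha : a ∈ c.Om h.Y) : ∃ n ∈ 𝐍[h.Y], n * c.t * n⁻¹ = a :=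
  let ⟨x, hx, h1⟩ := h.exists_x
  h.tr _ le_rfl le_normalizer ⟨x, ⟨hx.2, c.QT hx.1⟩, h1⟩ a ha

theorem om_conj {a n : G} (ha : a ∈ c.Om h.Y) (hn : n ∈ 𝐍[h.Y]) : n * a * n⁻¹ ∈ c.Om h.Y :=
  ⟨ha.1.trans (isConj_iff.2 ⟨n, rfl⟩), conj_mem_of_norm (norm_inf le_rfl (norm_cent le_rfl) hn) ha.2⟩

/-- a nontrivial normal subgroup of `Y` contains a central involution -/
theorem exists_cen {A : Subgroup G} (hA : A ≤ h.Y) (hn : h.Y ≤ 𝐍[A]) (h1 : A ≠ ⊥) :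
    ∃ e ∈ A ⊓ 𝐂[h.Y], e * e = 1 ∧ e ≠ 1 := by
  obtain ⟨e, he, o, hc⟩ := Inv.exists_central_mem_of_normalized h.pg hA h1 fun g hg x hx => conj_mem_of_norm (hn hg) hx
  exact ⟨e, ⟨he, mem_cent.2 hc⟩, mul_self_of_orderOf o⟩

theorem sylU {s : G} (hs : s ∈ c.Om h.Y) (h1 : s ≠ c.t) : Syl 2 (c.U ⊓ C1 s) (c.L ⊓ C1 s) := by
  have k := h.max _ h.t_om _ hs h1.symm
  have := k.inf (M := c.L ⊓ C1 s) (inf_le_inf_right _ c.LC)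
    (norm_inf (h.le.trans (c.TC.trans c.CN)) (norm_of_le (k.le.trans inf_le_right)))
  rwa [h.Y_eq hs h1, inf_inf_inf_comm, inf_idem, c.U_eq] at this

theorem inner {s : G} (hs : s ∈ c.Om h.Y) : s ∈ c.U ⊔ c.R := by
  by_cases h1 : s = c.t
  · exact h1 ▸ mem_sup_right c.t_mem_R
  by_contra hn
  obtain ⟨x, hx, h2⟩ := h.exists_x
  have nD : 𝐍[h.Y] ≤ 𝐍[⁅h.Y, h.Y⁆] := norm_comm le_rfl le_rfl
  have le : c.U ⊓ C1 s ≤ h.Y := h.Y_eq hs h1 ▸ inf_le_inf_right _ c.UT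
  obtain ⟨n, hn', e⟩ := h.tr (𝐍[h.Y] ⊓ cmod (zV h.Y) ⁅h.Y, h.Y⁆) inf_le_left
    (norm_inf le_normalizer (norm_cmod (norm_zV _) nD)) ⟨x, ⟨⟨hx.2, nD hx.2, fun v hv => by
      have m1 : ⁅v, x⁆ ∈ zV h.Y := by
        rw [commutatorElement_def, mul_assoc, mul_assoc, ← mul_assoc x]
        exact mul_mem hv (zV_conj hx.2 (inv_mem hv))
      have m2 : ⁅v, x⁆ ∈ c.Q :=
        mul_mem (conj_mem_of_norm (c.T_norm_ZQ (h.le hv.1.1)).2 hx.1) (inv_mem hx.1)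
      exact commutator_mono le le (c.out s (h.le hs.2.1) (c.om_sq hs) hn (h.sylU hs h1) _
        ⟨⟨c.QU m2, mem_C1.2 (mem_cent.1 hs.2.2 _ m1.1.1)⟩, cent_anti le m1.1.2⟩ m1.2)⟩, c.QT hx.1⟩, h2⟩ s hs
  have m := c.der (commutator_mono h.le h.le (hn'.2.2 c.t ⟨h.t_om.2, c.t2⟩))
  refine hn ?_
  rw [← e, show n * c.t * n⁻¹ = ⁅c.t, n⁆⁻¹ * c.t by rw [commutatorElement_def]; group]
  exact mul_mem (inv_mem m) (mem_sup_right c.t_mem_R)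

end Z0.Hard

end Cfsg.Agent.EE
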