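import Mathlib
import Cfsg.Agent.EE.ZOut

/-! Small facts on the configuration with three conjugates of `t` in the centre of `Y`. -/

set_option autoImplicit false
set_option linter.unusedSectionVars false

namespace Cfsg.Agent.EE

open Cfsg Cfsg.Agent.GT Cfsg.Agent.Loc.Mss Cfsg.Agent.StdB Cfsg.Agent.Chev Cfsg.Agent.FE Subgroup
open scoped commutatorElement

variable {G : Type*} [Group G] [Finite G] {c : Z0 G} {h : c.Hard} (k : c.Tri h)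

theorem zt_card_le {P F : Subgroup G} {β : Type*} [Finite β] (f : P → β)
    (h : ∀ v w, f v = f w → (v : G)⁻¹ * w ∈ F) : Nat.card P ≤ Nat.card F * Nat.card β := by
  rw [← Nat.card_prod]
  refine Nat.card_le_card_of_injective (fun v => (⟨_, h (Function.invFun f (f v)) v
    (Function.invFun_eq ⟨v, rfl⟩)⟩, f v)) fun v w e => ?_
  obtain ⟨e1, e2⟩ := Prod.ext_iff.1 e
  have e3 := congrArg Subtype.val e1
  simp only [show f v = f w from e2, mul_right_inj] at e3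
  exact Subtype.ext e3

theorem zt_comm_eq {u v w : G} (e : ⁅v, u⁆ = ⁅w, u⁆) : v⁻¹ * w ∈ C1 u := mem_C1.2 (by
  rw [commutatorElement_def, commutatorElement_def, mul_left_inj] at e
  calc _ = v⁻¹ * (w * u * w⁻¹) * w := by group
    _ = _ := by rw [← e]; group)

namespace Z0.Tri

theorem conj_om {n : G} (hn : n ∈ 𝐍[h.Y]) : n * c.t * n⁻¹ = c.t ∨ n * c.t * n⁻¹ = k.s ∨
    n * c.t * n⁻¹ = k.s * c.z := by
  have := h.om_conj h.t_om hn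
  rwa [k.om] at this

theorem s_om : k.s ∈ c.Om h.Y := by rw [k.om]; simp

theorem sz_om : k.s * c.z ∈ c.Om h.Y := by rw [k.om]; simp

theorem exists_n : ∃ n ∈ 𝐍[h.Y], n * c.t * n⁻¹ = k.s := h.trans k.s_om

theorem s_ne : k.s ≠ c.t ∧ k.s * c.z ≠ c.t := by
  rcases k.s_eq with e | e <;> rw [e]
  · exact ⟨fun e => c.t_notMem (e ▸ c.UL k.uU), fun e => c.t_notMem (e ▸ c.UL (mul_mem k.uU c.zU))⟩
  · exact ⟨fun e => k.uZ (by rw [mul_eq_left.1 e]; exact one_mem _), fun e => k.uZ (by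
      rw [mul_assoc, mul_eq_left] at e
      rw [eq_inv_of_mul_eq_one_left e]; exact inv_mem c.zZ)⟩

theorem u_mem : k.u ∈ h.Y ⊓ 𝐂[h.Y] := by
  rw [k.Y_eq]
  exact ⟨⟨c.UT k.uU, mem_C1.2 rfl⟩, mem_cent.2 fun a ha => mem_C1.1 ha.2⟩

include k in
theorem Z_le : c.Z ≤ h.Y := k.Y_eq ▸ le_inf c.ZT fun _ hy => mem_C1.2 (mem_cent.1 (c.ZU hy) _ k.uU).symm

include k in
theorem conj_z {n : G} (hn : n ∈ 𝐍[h.Y]) : n * c.z * n⁻¹ = n * c.t * n⁻¹ * (c.t * c.z) := by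
  calc _ = n * c.t * n⁻¹ * (n * (c.t * c.z) * n⁻¹) := by rw [conj_mul, ← mul_assoc c.t, c.t2, one_mul]
    _ = _ := by rw [mem_C1.1 (k.fix hn), mul_inv_cancel_right]

include k in
theorem fix_ZQ {n : G} (hn : n ∈ 𝐍[h.Y]) (e : n * c.t * n⁻¹ = c.t) : n ∈ 𝐍[c.Z] ⊓ 𝐍[c.Q] :=
  c.nZ n (c.CN (mem_C1.2 (mul_inv_eq_iff_eq_mul.1 e))) _ c.zZ c.z1 (by
    rw [k.conj_z hn, e, ← mul_assoc, c.t2, one_mul]; exact c.zZ)

theorem swap {x : G} (hx : x ∈ c.T ⊓ 𝐍[h.Y]) (h' : x ∉ h.Y) : x * k.s * x⁻¹ = k.s * c.z := by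
  have := h.om_conj k.s_om hx.2
  rw [k.om] at this
  rcases this with e | e | e
  · refine absurd ?_ k.s_ne.1
    rwa [mul_inv_eq_iff_eq_mul, ← mem_C1.1 (c.TC hx.1), mul_right_inj] at e
  · exact absurd (h.Y_eq k.s_om k.s_ne.1 ▸ ⟨hx.1, mem_C1.2 (mul_inv_eq_iff_eq_mul.1 e)⟩) h'
  · exact e

theorem QY : c.Q ⊓ h.Y = c.Q ⊓ C1 k.u := by rw [k.Y_eq, ← inf_assoc, inf_eq_left.2 c.QT]

include k in
theorem norm_A {n : G} (hn : n ∈ 𝐍[h.Y]) : cj(n, c.Q ⊓ h.Y) ≤ h.Y ∧ h.Y ≤ 𝐍[cj(n, c.Q ⊓ h.Y)] ∧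
    h.Y ≤ 𝐍[cj(n, c.Z)] := by
  have _ := k
  have e : ∀ A : Subgroup G, h.Y ≤ 𝐍[A] → h.Y ≤ 𝐍[cj(n, A)] := fun A hA => by
    rw [← cj_norm, ← cj_of_norm hn]; exact cj_mono n hA
  exact ⟨cj_le_of_norm inf_le_right hn, e _ (norm_inf (h.le.trans (c.T_norm_ZQ.trans inf_le_right)) le_normalizer),
    e _ (h.le.trans (c.T_norm_ZQ.trans inf_le_left))⟩

include k in
theorem eq_z {e : G} (he : e ∈ c.Z ⊓ 𝐂[h.Y]) (h1 : e ≠ 1) : e = c.z := by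
  rcases k.cen e ⟨c.QU (c.ZQ he.1), he.2⟩ (c.el e he.1) with r | r | r | r
  exacts [absurd r h1, r, absurd (r ▸ he.1) k.uZ, absurd ((mul_mem_cancel_right c.zZ).1 (r ▸ he.1)) k.uZ]

include k in
theorem Z_inf {n : G} (hn : n ∈ 𝐍[h.Y]) (e : n * c.t * n⁻¹ ≠ c.t) : c.Z ⊓ cj(n, c.Z) = ⊥ := by
  by_contra h1
  obtain ⟨y, hy, -, y1⟩ := h.exists_cen (inf_le_left.trans k.Z_le)
    (norm_inf (h.le.trans (c.T_norm_ZQ.trans inf_le_left)) (k.norm_A hn).2.2) h1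
  have e1 := k.eq_z ⟨hy.1.1, hy.2⟩ y1
  have e2 := k.eq_z ⟨mem_cj.1 hy.1.2, conj_mem_of_norm' (norm_cent le_rfl hn) hy.2⟩ fun r => y1 (by
    calc y = n * (n⁻¹ * y * n) * n⁻¹ := by group
      _ = 1 := by rw [r]; group)
  have e3 := k.conj_z hn
  rw [show n * c.z * n⁻¹ = c.z from (by rw [← e2]; group : _ = y).trans e1, ← mul_assoc, right_eq_mul] at e3
  exact e ((eq_inv_of_mul_eq_one_left e3).trans (inv_eq_of_mul_eq_one_right c.t2))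

theorem card_A (hu : k.u ∈ c.Q) : Nat.card ↥(c.Q ⊓ h.Y) = c.m * c.m := by
  have h1 := zt_card_le (P := c.Q) (F := c.Q ⊓ C1 k.u)
    (fun v => (⟨⁅(v : G), k.u⁆, c.cm (commutator_mem_commutator v.2 hu)⟩ : c.Z))
    fun v w e => ⟨c.Q.mul_mem (c.Q.inv_mem v.2) w.2, zt_comm_eq (congrArg Subtype.val e)⟩
  choose! σ hσ e using c.onto _ hu k.uZ
  have k1 : ∀ (a : ↥(c.Q ⊓ C1 k.u)) (y : c.Z), ⁅σ y * a, k.u⁆ = y := fun a y => by
    refine Eq.trans ?_ (e y y.2)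
    rw [commutatorElement_def, commutatorElement_def, mul_assoc _ (a : G), mem_C1.1 a.2.2]; group
  have h2 : Nat.card (↥(c.Q ⊓ C1 k.u) × c.Z) ≤ Nat.card c.Q := Nat.card_le_card_of_injective
    (fun p => ⟨σ p.2 * p.1, mul_mem (hσ _ p.2.2) p.1.2.1⟩) fun p q e => by
      have e1 := congrArg Subtype.val e
      have e2 : p.2 = q.2 := Subtype.ext ((k1 p.1 _).symm.trans ((congrArg (⁅·, k.u⁆) e1).trans (k1 q.1 _)))
      simp only [e2, mul_right_inj] at e1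
      exact Prod.ext (Subtype.ext e1) e2
  rw [Nat.card_prod] at h2
  have h3 := le_antisymm h1 h2
  rw [c.cardQ, mul_comm] at h3
  rw [k.QY]
  exact (Nat.eq_of_mul_eq_mul_right Nat.card_pos h3).symm

end Z0.Tri

end Cfsg.Agent.EE
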