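import Mathlib
import Cfsg.Agent.EE.ZFus

/-!
# A commuting pair of conjugates of `t` with a largest common centralizer
-/

set_option autoImplicit false
set_option linter.unusedSectionVars false

namespace Cfsg.Agent.EE

open Cfsg Cfsg.Agent.GT Cfsg.Agent.Loc.Mss Cfsg.Agent.StdB Cfsg.Agent.Chev Cfsg.Agent.FE Subgroup
open scoped commutatorElement

variable {G : Type*} [Group G] [Finite G] (c : Z0 G)

namespace ZPair

/-- parity of a set on which a `2`-element acts by conjugation -/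
theorem parity {O : Set G} {x : G} {k : ℕ} (hx : x ^ 2 ^ k = 1) (hO : ∀ b ∈ O, x * b * x⁻¹ ∈ O) :
    O.ncard ≡ {b | b ∈ O ∧ x * b * x⁻¹ = b}.ncard [MOD 2] := by
  classical
  have : Fintype O := Fintype.ofFinite O
  let f : Function.End O := fun b => ⟨x * b * x⁻¹, hO b b.2⟩
  have hf : ∀ n : ℕ, ∀ b : O, ((f ^ n) b : G) = x ^ n * b * (x ^ n)⁻¹ := by
    intro n
    induction n with
    | zero => intro b; simp [Function.End.one_def]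
    | succ n ih =>
      intro b
      rw [pow_succ']
      show x * ((f ^ n) b : G) * x⁻¹ = _
      rw [ih, pow_succ']; group
  have h1 : f ^ 2 ^ k = 1 := by
    funext b
    apply Subtype.ext
    rw [hf, hx]; simp [Function.End.one_def]
  have h2 := Equiv.Perm.card_fixedPoints_modEq (p := 2) (n := k) h1
  rw [← Nat.card_eq_fintype_card, ← Nat.card_eq_fintype_card] at h2
  have e : Nat.card f.fixedPoints = {b | b ∈ O ∧ x * b * x⁻¹ = b}.ncard := by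
    rw [← Nat.card_coe_set_eq]
    refine Nat.card_congr ⟨fun b => ⟨b.1.1, b.1.2, congrArg Subtype.val b.2⟩,
      fun b => ⟨⟨b.1, b.2.1⟩, Subtype.ext b.2.2⟩, fun b => rfl, fun b => rfl⟩
  rw [e, Nat.card_coe_set_eq] at h2
  exact h2

theorem odd_of_unique {O : Set G} {x a : G} {k : ℕ} (hx : x ^ 2 ^ k = 1) (hO : ∀ b ∈ O, x * b * x⁻¹ ∈ O)
    (ha : a ∈ O) (hxa : x * a * x⁻¹ = a) (hu : ∀ b ∈ O, x * b * x⁻¹ = b → b = a) : Odd O.ncard := by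
  have h := parity hx hO
  have e : {b | b ∈ O ∧ x * b * x⁻¹ = b} = {a} :=
    Set.eq_singleton_iff_unique_mem.2 ⟨⟨ha, hxa⟩, fun b hb => hu b hb.1 hb.2⟩
  rw [e, Set.ncard_singleton] at h
  exact Nat.odd_iff.2 h

theorem even_of_free {O : Set G} {x : G} {k : ℕ} (hx : x ^ 2 ^ k = 1) (hO : ∀ b ∈ O, x * b * x⁻¹ ∈ O)
    (hu : ∀ b ∈ O, x * b * x⁻¹ ≠ b) : Even O.ncard := by
  have h := parity hx hO
  have e : {b | b ∈ O ∧ x * b * x⁻¹ = b} = ∅ := Set.eq_empty_of_forall_notMem fun b hb => hu b hb.1 hb.2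
  rw [e, Set.ncard_empty] at h
  exact Nat.even_iff.2 h

theorem cj_C1 (g a : G) : cj(g, C1 a) = C1 (g * a * g⁻¹) := by
  ext y
  rw [mem_cj, mem_C1, mem_C1]
  constructor
  · intro e
    rw [show y * (g * a * g⁻¹) = g * (g⁻¹ * y * g * a) * g⁻¹ by group, e]; group
  · intro e
    rw [show g⁻¹ * y * g * a = g⁻¹ * (y * (g * a * g⁻¹)) * g by group, e]; group

/-- a 2-subgroup centralizing two different commuting conjugates of `t` -/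
def Pr (Y : Subgroup G) : Prop :=
  IsPGroup 2 Y ∧ ∃ a b, IsConj c.t a ∧ IsConj c.t b ∧ a ≠ b ∧ a * b = b * a ∧ Y ≤ C1 a ⊓ C1 b

variable {c}

theorem sq_of_conj {a : G} (h : IsConj c.t a) : a * a = 1 := by
  obtain ⟨g, rfl⟩ := isConj_iff.1 h
  rw [show g * c.t * g⁻¹ * (g * c.t * g⁻¹) = g * (c.t * c.t) * g⁻¹ by group, c.t2]; group

theorem isConj_conj {a : G} (h : IsConj c.t a) (g : G) : IsConj c.t (g * a * g⁻¹) :=
  h.trans (isConj_iff.2 ⟨g, rfl⟩)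

/-- the maximal choice -/
theorem exists_max (h : ∃ g, g * c.t * g⁻¹ ∈ c.T ∧ g * c.t * g⁻¹ ≠ c.t) :
    ∃ Y : Subgroup G, ∃ s, IsPGroup 2 Y ∧ Y ≤ c.T ∧ IsConj c.t s ∧ s ≠ c.t ∧ c.t * s = s * c.t ∧ Y ≤ C1 s ∧
      ∀ P, Pr c P → Nat.card P ≤ Nat.card Y := by
  obtain ⟨g, hg, hne⟩ := h
  have h0 : Pr c ⊥ := ⟨IsPGroup.of_bot, c.t, _, IsConj.refl _, isConj_iff.2 ⟨g, rfl⟩, hne.symm,
    (mem_C1.1 (c.syl.le hg)).symm, bot_le⟩
  obtain ⟨Y, hY, hm⟩ := Set.exists_max_image {P | Pr c P} (fun P => Nat.card P) (Set.toFinite _) ⟨⊥, h0⟩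
  obtain ⟨pg, a, b, ha, hb, hab, hc, hle⟩ := hY
  obtain ⟨u, rfl⟩ := isConj_iff.1 ha
  have h1 : cj(u⁻¹, Y) ≤ C1 c.t := by
    have := cj_mono u⁻¹ (hle.trans inf_le_left)
    rwa [cj_C1, show u⁻¹ * (u * c.t * u⁻¹) * u⁻¹⁻¹ = c.t by group] at this
  obtain ⟨v, hv, h2⟩ := c.syl.conj_le (pg_cj pg u⁻¹) h1
  have hv' := mem_C1.1 hv
  have et : v * u⁻¹ * (u * c.t * u⁻¹) * (v * u⁻¹)⁻¹ = c.t := by
    rw [show v * u⁻¹ * (u * c.t * u⁻¹) * (v * u⁻¹)⁻¹ = v * c.t * v⁻¹ by group, hv']; group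
  rw [cj_cj] at h2
  refine ⟨cj(v * u⁻¹, Y), v * u⁻¹ * b * (v * u⁻¹)⁻¹, pg_cj pg _, h2, isConj_conj hb _, fun e => hab ?_, ?_, ?_,
    fun P hP => (card_cj Y _).symm ▸ hm P hP⟩
  · rw [← et] at e
    exact (mul_left_cancel (mul_right_cancel e)).symm
  · rw [← et, show ∀ w p q : G, w * p * w⁻¹ * (w * q * w⁻¹) = w * (p * q) * w⁻¹ from fun _ _ _ => by group, hc]
    group
  · have := cj_mono (v * u⁻¹) (hle.trans inf_le_right)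
    rwa [cj_C1] at this

section

variable {Y : Subgroup G} (pg : IsPGroup 2 Y) (hm : ∀ P, Pr c P → Nat.card P ≤ Nat.card Y)
include pg hm

theorem syl_of {a b : G} (ha : IsConj c.t a) (hb : IsConj c.t b) (hab : a ≠ b) (hc : a * b = b * a)
    (hle : Y ≤ C1 a ⊓ C1 b) : Syl 2 Y (C1 a ⊓ C1 b) :=
  Syl.of_maximal pg hle fun P hP hYP hPL =>
    (eq_of_le_of_card_ge hYP (hm P ⟨hP, a, b, ha, hb, hab, hc, hPL⟩)).ge

theorem mem_of {a b : G} (ha : IsConj c.t a) (hb : IsConj c.t b) (hab : a ≠ b) (hc : a * b = b * a)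
    (hle : Y ≤ C1 a ⊓ C1 b) : a ∈ Y ⊓ 𝐂[Y] := by
  have hC : a ∈ 𝐂[Y] := mem_cent.2 fun y hy => mem_C1.1 (hle hy).1
  refine ⟨(syl_of pg hm ha hb hab hc hle).le_of_norm' (pg_zpowers (sq_of_conj ha)) ?_ ?_ (mem_zpowers a), hC⟩
  · exact (zpowers_le).2 ⟨mem_C1.2 rfl, mem_C1.2 hc⟩
  · exact (zpowers_le).2 (cent_le_norm Y hC)

theorem om_max {a b : G} (ha : a ∈ c.Om Y) (hb : b ∈ c.Om Y) (hab : a ≠ b) : Syl 2 Y (C1 a ⊓ C1 b) :=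
  syl_of pg hm ha.1 hb.1 hab (mem_cent.1 hb.2.2 a ha.2.1) fun y hy =>
    ⟨mem_C1.2 (mem_cent.1 ha.2.2 y hy), mem_C1.2 (mem_cent.1 hb.2.2 y hy)⟩

end

theorem om_conj {Y : Subgroup G} {a n : G} (ha : a ∈ c.Om Y) (hn : n ∈ 𝐍[Y]) : n * a * n⁻¹ ∈ c.Om Y :=
  ⟨isConj_conj ha.1 n, conj_mem_of_norm (norm_inf le_rfl (norm_cent le_rfl) hn) ha.2⟩

/-- a good element for the point `a` -/
def Gx (Y : Subgroup G) (a x : G) : Prop := x ∈ 𝐍[Y] ∧ x ∉ Y ∧ x * a * x⁻¹ = a ∧ ∃ k : ℕ, x ^ 2 ^ k = 1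

section

variable {Y : Subgroup G} (mx : ∀ a ∈ c.Om Y, ∀ b ∈ c.Om Y, a ≠ b → Syl 2 Y (C1 a ⊓ C1 b))
include mx

theorem Gx.unique {a b x : G} (h : Gx Y a x) (ha : a ∈ c.Om Y) (hb : b ∈ c.Om Y) (e : x * b * x⁻¹ = b) : b = a := by
  by_contra hne
  obtain ⟨hn, hY, hx, k, hk⟩ := h
  refine hY ((mx b hb a ha hne).le_of_norm' (pg_zpowers_of_pow hk) ?_ ((zpowers_le).2 hn) (mem_zpowers x))
  exact (zpowers_le).2 ⟨mem_C1.2 (mul_inv_eq_iff_eq_mul.1 e), mem_C1.2 (mul_inv_eq_iff_eq_mul.1 hx)⟩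

theorem trans_of {N : Subgroup G} (hN : N ≤ 𝐍[Y]) (ht : c.t ∈ c.Om Y) (hx : ∀ a ∈ c.Om Y, ∃ x ∈ N, Gx Y a x)
    {a : G} (ha : a ∈ c.Om Y) : ∃ n ∈ N, n * c.t * n⁻¹ = a := by
  by_contra hne
  let O : Set G := {b | ∃ n ∈ N, n * a * n⁻¹ = b}
  have hO : ∀ b ∈ O, b ∈ c.Om Y := by
    rintro _ ⟨n, hn, rfl⟩
    exact om_conj ha (hN hn)
  have hcl : ∀ x ∈ N, ∀ b ∈ O, x * b * x⁻¹ ∈ O := by
    rintro x hx _ ⟨n, hn, rfl⟩
    exact ⟨x * n, N.mul_mem hx hn, by group⟩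
  obtain ⟨x, hxN, gx⟩ := hx a ha
  obtain ⟨y, hyN, gy⟩ := hx c.t ht
  obtain ⟨k, hk⟩ := gx.2.2.2
  obtain ⟨l, hl⟩ := gy.2.2.2
  have h1 : Odd O.ncard := odd_of_unique hk (hcl x hxN) ⟨1, N.one_mem, by group⟩ gx.2.2.1
    fun b hb e => gx.unique mx ha (hO b hb) e
  have h2 : Even O.ncard := even_of_free hl (hcl y hyN) fun b hb e => by
    have := gy.unique mx ht (hO b hb) e
    obtain ⟨n, hn, e'⟩ := hb
    exact hne ⟨n⁻¹, N.inv_mem hn, by rw [← this, ← e']; group⟩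
  exact Nat.not_odd_iff_even.2 h2 h1

end

theorem exists_gx {Y : Subgroup G} (pg : IsPGroup 2 Y) (hlt : Nat.card Y < Nat.card c.T) {a : G}
    (ha : a ∈ c.Om Y) : ∃ x, Gx Y a x := by
  obtain ⟨u, e⟩ := isConj_iff.1 ha.1
  have hS : Syl 2 cj(u, c.T) (C1 a) := by
    have := c.syl.cj u
    rwa [cj_C1, e] at this
  have hle : Y ≤ C1 a := fun y hy => mem_C1.2 (mem_cent.1 ha.2.2 y hy)
  obtain ⟨P, hYP, hP⟩ := Syl.exists_ge pg hle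
  have hc : Nat.card P = Nat.card c.T := (hP.card_eq hS).trans (card_cj _ _)
  have hlt' : Y < P := lt_of_le_of_ne hYP fun e => by rw [e, hc] at hlt; exact lt_irrefl _ hlt
  obtain ⟨x, hx, hxY⟩ := SetLike.exists_of_lt (Tr.lt_inf_normalizer hP.pg hlt')
  exact ⟨x, hx.2, hxY, mul_inv_eq_iff_eq_mul.2 (mem_C1.1 (hP.le hx.1)), pg_iff.1 hP.pg x hx.1⟩

end ZPair

open ZPair in
theorem Z0.hard (top : Syl 2 c.T ⊤) (notZ : ∀ g, ∀ y ∈ c.Z, g * c.t * g⁻¹ = c.t * y → y = 1)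
    (h : ∃ g, g * c.t * g⁻¹ ∈ c.T ∧ g * c.t * g⁻¹ ≠ c.t) : Nonempty c.Hard := by
  obtain ⟨Y, s, pg, hT, hs, hne, hc, hYs, hm⟩ := exists_max h
  have hle : Y ≤ C1 c.t ⊓ C1 s := le_inf (hT.trans c.syl.le) hYs
  have ht : c.t ∈ c.Om Y := ⟨IsConj.refl _, mem_of pg hm (IsConj.refl _) hs hne.symm hc hle⟩
  have hs' : s ∈ c.Om Y := ⟨hs, mem_of pg hm hs (IsConj.refl _) hne hc.symm (hle.trans (inf_comm _ _).le)⟩
  have mx : ∀ a ∈ c.Om Y, ∀ b ∈ c.Om Y, a ≠ b → Syl 2 Y (C1 a ⊓ C1 b) := fun a ha b hb hab =>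
    om_max pg hm ha hb hab
  have hlt : Nat.card Y < Nat.card c.T := by
    by_contra hn
    have e : Y = c.T := eq_of_le_of_card_ge hT (not_lt.1 hn)
    obtain ⟨g, hg⟩ := isConj_iff.1 hs
    have h1 : s ∈ c.T ⊓ 𝐂[c.Q] := ⟨hT hs'.2.1, cent_anti ((c.QU.trans c.UT).trans e.ge) hs'.2.2⟩
    obtain ⟨y, hy, h2 | h2⟩ := c.cen_inv h1 (sq_of_conj hs)
    · exact c.noZ g (by rw [hg, h2]; exact hy)
    · exact hne (by rw [h2, notZ g y hy (hg.trans h2), mul_one])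
  have tr0 : ∀ a ∈ c.Om Y, ∃ n ∈ 𝐍[Y], n * c.t * n⁻¹ = a := fun a ha =>
    trans_of mx le_rfl ht (fun b hb => (exists_gx pg hlt hb).imp fun x hx => ⟨hx.1, hx⟩) ha
  refine ⟨⟨Y, top, c.noZ, notZ, hT, ht.2.1, ⟨s, hs', hne⟩, mx, ?_, ?_⟩⟩
  · rintro N hN hNN ⟨x, hx, hxY⟩ a ha
    refine trans_of mx hN ht (fun b hb => ?_) ha
    obtain ⟨m, hm', rfl⟩ := tr0 b hb
    obtain ⟨k, hk⟩ := pg_iff.1 c.syl.pg x hx.2
    refine ⟨m * x * m⁻¹, conj_mem_of_norm (hNN hm') hx.1, conj_mem_of_norm (le_normalizer hm') (hN hx.1),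
      fun hY => hxY ?_, ?_, k, ?_⟩
    · have := conj_mem_of_norm' hm' hY
      rwa [show m⁻¹ * (m * x * m⁻¹) * m = x by group] at this
    · rw [show m * x * m⁻¹ * (m * c.t * m⁻¹) * (m * x * m⁻¹)⁻¹ = m * (x * c.t * x⁻¹) * m⁻¹ by group,
        mem_C1.1 (c.syl.le hx.2)]
      group
    · rw [conj_pow, hk]; group
  · obtain ⟨x, gx⟩ := exists_gx pg hlt ht
    obtain ⟨k, hk⟩ := gx.2.2.2
    exact odd_of_unique hk (fun b hb => om_conj hb gx.1) ht gx.2.2.1 fun b hb e => gx.unique mx ht hb e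

end Cfsg.Agent.EE
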